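import Cfsg.Agent.ClassicalMax.OWreath.Plane
import Cfsg.Agent.ClassicalMax.SpWreath.Crit
import Cfsg.Agent.Asch.Transport
import Cfsg.Agent.NotMax.Basic

/-!
An orthogonal space that is a tensor power of a symplectic space: the slot root elements and the even permutations of
the slots lie in the commutator subgroup, the commutator subgroup does not preserve the decomposition, and maximality
follows from a criterion in the coordinates of the decomposition.
-/

set_option autoImplicit false
set_option linter.unusedSectionVars false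
set_option linter.style.haveILetI false

namespace Cfsg.Agent.ClassicalMax.OWreath

open Module Matrix QuadraticMap Cfsg.Geo Cfsg.Agent.Classical Cfsg.Agent.Classical.Quad
open Cfsg.Agent.ClassicalMax Cfsg.Agent.ClassicalMax.TPow Cfsg.Agent.ClassicalMax.RootPlanes
open Cfsg.Agent.ClassicalMax.SpWreath (GV GV_det pv bf_pv rk_pv Root InH)
open scoped MatrixGroups

/-- the even permutations are products of commutators -/
theorem perm_mem_commutator {α : Type} [Fintype α] [DecidableEq α] {σ : Equiv.Perm α}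
    (hσ : Equiv.Perm.sign σ = 1) : σ ∈ commutator (Equiv.Perm α) := by
  have h1 : σ ∈ alternatingGroup α := Equiv.Perm.mem_alternatingGroup.2 hσ
  rw [← Equiv.Perm.closure_three_cycles_eq_alternating] at h1
  refine (Subgroup.closure_le _).2 ?_ h1
  intro g hg
  obtain ⟨c, hc⟩ := isConj_iff.1 (Equiv.Perm.isConj_iff_cycleType_eq.2 (Equiv.Perm.cycleType_inv g).symm)
  have h2 : c * g * c⁻¹ * g⁻¹ ∈ commutator (Equiv.Perm α) :=
    Subgroup.commutator_mem_commutator (Subgroup.mem_top c) (Subgroup.mem_top g)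
  have h3 : g ^ 3 = 1 := hg.orderOf ▸ pow_orderOf_eq_one g
  rw [hc] at h2
  have e : g⁻¹ * g⁻¹ = g := by
    rw [← _root_.mul_inv_rev, inv_eq_iff_mul_eq_one, ← h3, pow_succ, pow_two]
  rwa [e] at h2

theorem mem_commutator_map {A B : Type*} [Group A] [Group B] (f : A →* B) {g : A} (hg : g ∈ commutator A) :
    f g ∈ commutator B := by
  have h := Subgroup.mem_map_of_mem f hg
  rw [commutator_def, Subgroup.map_commutator] at h
  exact Subgroup.commutator_mono le_top le_top h

variable {F : Type*} [Field F] [Finite F] {k t : ℕ} {J : Matrix (Fin k) (Fin k) F}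
  {Q : QuadraticForm F ((Fin t → Fin k) → F)} {c : F}

/-- the matrix of an isometry -/
noncomputable def mt : oG Q →* GL (Fin t → Fin k) F :=
  (glEquiv (Fin t → Fin k) F).symm.toMonoidHom.comp (oG Q).subtype

theorem mt_mulVec (g : oG Q) (x : (Fin t → Fin k) → F) :
    (mt g : Matrix (Fin t → Fin k) (Fin t → Fin k) F) *ᵥ x = g.1 x := symm_mulVec g.1 x

theorem mt_injective : Function.Injective (mt (Q := Q)) := fun g h e => ext_oG fun x => by
  rw [← mt_mulVec, e, mt_mulVec]

/-- the matrix is that of an element of the commutator subgroup -/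
def InC (Q : QuadraticForm F ((Fin t → Fin k) → F)) (X : Matrix (Fin t → Fin k) (Fin t → Fin k) F) : Prop :=
  ∃ g ∈ commutator (oG Q), (mt g : Matrix (Fin t → Fin k) (Fin t → Fin k) F) = 1 + X

theorem InC.zero : InC Q 0 := ⟨1, one_mem _, by rw [map_one, Units.val_one, add_zero]⟩

theorem InC.add {X Y : Matrix (Fin t → Fin k) (Fin t → Fin k) F} (hX : InC Q X) (hY : InC Q Y) (h : X * Y = 0) :
    InC Q (X + Y) := by
  obtain ⟨a, ha, ea⟩ := hX
  obtain ⟨b, hb, eb⟩ := hY
  refine ⟨a * b, mul_mem ha hb, ?_⟩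
  rw [map_mul, Units.val_mul, ea, eb, mul_add, mul_one, add_mul, one_mul, h]
  abel

theorem tens_sum {β γ : Type} [Fintype β] [DecidableEq β] [Fintype γ] [DecidableEq γ]
    (X : β → γ → Matrix (Fin k) (Fin k) F) :
    tens (fun l => ∑ b, X l b) = ∑ y : β → γ, tens (fun l => X l (y l)) := by
  ext x z
  simp only [tens_apply, Matrix.sum_apply]
  exact Fintype.prod_sum fun l b => X l b (x l) (z l)

namespace Space

variable (hV : Space Q J c)
include hV

theorem J_skew : Jᵀ = -J := by
  ext a b
  have h := hV.swap (Pi.single b 1) (Pi.single a 1)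
  simp only [bf, mulVec_single_one, single_dotProduct, one_mul, Matrix.col_apply] at h
  simpa [Matrix.transpose_apply] using h

theorem bf_comm (x y : (Fin t → Fin k) → F) : bf (GV J) x y = bf (GV J) y x :=
  mul_left_cancel₀ hV.c0 (by rw [← hV.pol, ← hV.pol, polar_comm])

/-- the transformation of a plane of pure tensors -/
theorem sO_mat {a b : (Fin t → Fin k) → F} (hb : Q b = 0) (s : F) {ha : Q a = 0}
    {h : polar Q a (s • b) = 0} :
    (mt (sO ha h) : Matrix (Fin t → Fin k) (Fin t → Fin k) F) = 1 + (s * c) • (rk (GV J) a b - rk (GV J) b a) := by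
  refine Matrix.toLin'.injective (LinearMap.ext fun x => ?_)
  rw [Matrix.toLin'_apply, Matrix.toLin'_apply, mt_mulVec, sO_apply, Quad.map_smul', hb, hV.pol, hV.pol, bf_smul_right,
    hV.bf_comm x a, hV.bf_comm x b, add_mulVec, one_mulVec, smul_mulVec, sub_mulVec, rk_mulVec, rk_mulVec]
  module

theorem inC_pair (hk : Nat.card F ≠ 2 ∨ k ^ t ≠ 4) (a b : Fin t → Fin k → F) (h : bf (GV J) (pv a) (pv b) = 0)
    (s : F) : InC Q (s • (rk (GV J) (pv a) (pv b) - rk (GV J) (pv b) (pv a))) := by
  have hab : polar Q (pv a) ((s / c) • pv b) = 0 := by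
    rw [polar_smul_right, hV.pol, h, mul_zero, smul_zero]
  refine ⟨sO (hV.pure a) hab, sO_mem_commutator hV.nd ?_ _ _, ?_⟩
  · rwa [Module.finrank_fintype_fun_eq_card, Fintype.card_fun, Fintype.card_fin, Fintype.card_fin]
  · rw [hV.sO_mat (hV.pure b), div_mul_cancel₀ _ hV.c0]

/-- a slot root element is a product of Siegel transformations with pure parameters -/
theorem inC_slot (hk : Nat.card F ≠ 2 ∨ k ^ t ≠ 4) (hte : (-1 : F) ^ t = 1) (ht : 2 ≤ t) (i : Fin t)
    (u : Fin k → F) (s : F) : InC Q (s • sl i (rk J u u)) := by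
  classical
  haveI : Nontrivial (Fin t) := Fin.nontrivial_iff_two_le.2 ht
  obtain ⟨j, hj⟩ := exists_ne i
  rcases isEmpty_or_nonempty (Fin k) with h0 | ⟨⟨o⟩⟩
  · rw [show s • sl i (rk J u u) = 0 from Matrix.ext fun x _ => (IsEmpty.false (x i)).elim]
    exact InC.zero
  -- half of the form
  let M : Matrix (Fin k) (Fin k) F := Matrix.of fun a b => if a < b then J a b else 0
  have hM : M - Mᵀ = J := by
    ext a b
    simp only [M, Matrix.sub_apply, Matrix.transpose_apply, Matrix.of_apply]
    have hsk : J b a = -J a b := by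
      have := congrFun (congrFun hV.J_skew a) b
      rwa [Matrix.transpose_apply, Matrix.neg_apply] at this
    rcases lt_trichotomy a b with h | h | h
    · simp [h, h.not_gt]
    · subst h
      have := hV.alt (Pi.single a 1)
      simp only [bf, mulVec_single_one, single_dotProduct, one_mul, Matrix.col_apply] at this
      simp [this]
    · simp [h, h.not_gt, hsk]
  set P : Matrix (Fin k) (Fin k) F := J⁻¹ * M with hP
  let v : Fin t → Fin k → Fin k → F := fun l b => if l = i then (if b = o then u else 0) else Pi.single b 1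
  let w : Fin t → Fin k → Fin k → F := fun l b => if l = i then (if b = o then u else 0)
    else if l = j then P.row b ᵥ* J⁻¹ else (1 : Matrix (Fin k) (Fin k) F).row b ᵥ* J⁻¹
  have hrow : ∀ R : Matrix (Fin k) (Fin k) F, ∑ b, rk J (Pi.single b 1) (R.row b ᵥ* J⁻¹) = R := fun R => by
    ext x y
    simp only [rk, Matrix.sum_apply, vecMulVec_apply, vecMul_vecMul, nonsing_inv_mul J hV.det, vecMul_one,
      Pi.single_apply, ite_mul, one_mul, zero_mul, Finset.sum_ite_eq, Finset.mem_univ, if_true]
    rfl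
  have hswap : ∀ R : Matrix (Fin k) (Fin k) F, ∑ b, rk J (R.row b ᵥ* J⁻¹) (Pi.single b 1) =
      (-1 : F) • (J⁻¹ * Rᵀ * J) := fun R => by
    have h := congrArg (fun M => J⁻¹ * (Mᵀ * J)) (hrow R)
    simp only [transpose_sum, Finset.sum_mul, rk_transpose J (ε := (-1 : F)) (by rw [hV.J_skew, neg_one_smul]),
      ← Finset.smul_sum, ← Finset.mul_sum, mul_smul_comm, ← Matrix.mul_assoc, nonsing_inv_mul J hV.det,
      Matrix.one_mul] at h
    rw [← h, smul_smul, neg_one_mul, neg_neg, one_smul]
  have hi : ∀ (v' w' : Fin t → Fin k → Fin k → F), (∀ b, v' i b = if b = o then u else 0) →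
      (∀ b, w' i b = if b = o then u else 0) → ∑ b, rk J (v' i b) (w' i b) = rk J u u := fun v' w' h1 h2 => by
    rw [Finset.sum_eq_single o]
    · rw [h1, h2, if_pos rfl]
    · intro b _ hb; rw [h1, if_neg hb, rk, zero_vecMulVec]
    · exact fun h => absurd (Finset.mem_univ o) h
  have e1 : ∑ y : Fin t → Fin k, rk (GV J) (pv fun l => v l (y l)) (pv fun l => w l (y l)) =
      tens (Function.update (Function.update 1 i (rk J u u)) j P) := by
    simp only [rk_pv]
    rw [← tens_sum fun l b => rk J (v l b) (w l b)]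
    congr 1
    funext l
    rcases eq_or_ne l i with h | h
    · rw [h, Function.update_of_ne hj.symm, Function.update_self]
      exact hi v w (fun b => by simp [v]) (fun b => by simp [w])
    rcases eq_or_ne l j with h' | h'
    · simp only [v, w, if_neg h, if_pos h']
      rw [hrow, h', Function.update_self]
    · simp only [v, w, if_neg h, if_neg h']
      rw [hrow, Function.update_of_ne h', Function.update_of_ne h]
      rfl
  have e2 : ∑ y : Fin t → Fin k, rk (GV J) (pv fun l => w l (y l)) (pv fun l => v l (y l)) =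
      tens (Function.update (Function.update 1 i (rk J u u)) j (J⁻¹ * Pᵀ * J)) * ((-1 : F) ^ (t - 1) • 1) := by
    simp only [rk_pv]
    rw [← tens_sum fun l b => rk J (w l b) (v l b), Matrix.mul_smul, Matrix.mul_one]
    have e3 : (-1 : F) ^ (t - 1) = ∏ l : Fin t, (if l = i then 1 else -1) := by
      rw [← Finset.prod_erase_mul _ _ (Finset.mem_univ i), if_pos rfl, mul_one,
        Finset.prod_congr rfl (g := fun _ => (-1 : F)) (fun l hl => if_neg (Finset.ne_of_mem_erase hl)),
        Finset.prod_const, Finset.card_erase_of_mem (Finset.mem_univ i), Finset.card_univ, Fintype.card_fin]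
    rw [e3, ← tens_smul]
    congr 1
    funext l
    rcases eq_or_ne l i with h | h
    · rw [h, if_pos rfl, one_smul, Function.update_of_ne hj.symm, Function.update_self]
      exact hi w v (fun b => by simp [w]) (fun b => by simp [v])
    rw [if_neg h]
    rcases eq_or_ne l j with h' | h'
    · simp only [v, w, if_neg h, if_pos h']
      rw [hswap, h', Function.update_self]
    · simp only [v, w, if_neg h, if_neg h']
      rw [hswap, Function.update_of_ne h', Function.update_of_ne h, transpose_one, Matrix.mul_one,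
        nonsing_inv_mul J hV.det]
      rfl
  have hodd : (-1 : F) ^ (t - 1) = -1 := by
    obtain ⟨r, rfl⟩ : ∃ r, t = r + 1 := ⟨t - 1, by omega⟩
    rw [pow_succ] at hte
    rw [Nat.add_sub_cancel]
    linear_combination -hte
  have hPP : P + J⁻¹ * Pᵀ * J = 1 := by
    have hinv : (J⁻¹)ᵀ = -J⁻¹ := by
      rw [transpose_nonsing_inv, hV.J_skew]
      exact inv_eq_right_inv (by rw [neg_mul_neg, mul_nonsing_inv J hV.det])
    rw [hP, transpose_mul, hinv, Matrix.mul_neg, Matrix.mul_assoc J⁻¹, Matrix.neg_mul, Matrix.mul_assoc,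
      nonsing_inv_mul J hV.det, Matrix.mul_one, ← Matrix.mul_add, ← sub_eq_add_neg, hM, nonsing_inv_mul J hV.det]
  have hsum : ∀ S : Finset (Fin t → Fin k), InC Q (∑ y ∈ S, s • (rk (GV J) (pv fun l => v l (y l))
      (pv fun l => w l (y l)) - rk (GV J) (pv fun l => w l (y l)) (pv fun l => v l (y l)))) := fun S => by
    have hvw : ∀ (f g : Fin t → Fin k → Fin k → F), (f = v ∨ f = w) → (g = v ∨ g = w) →
        ∀ y y' : Fin t → Fin k, bf (GV J) (pv fun l => f l (y l)) (pv fun l => g l (y' l)) = 0 := by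
      intro f g hf hg y y'
      rw [bf_pv]
      refine Finset.prod_eq_zero (Finset.mem_univ i) ?_
      rcases hf with rfl | rfl <;> rcases hg with rfl | rfl <;> simp only [v, w, if_true] <;>
        split_ifs <;> first | exact hV.alt u | simp [bf]
    induction S using Finset.induction_on with
    | empty => rw [Finset.sum_empty]; exact InC.zero
    | insert y S hy ih =>
      rw [Finset.sum_insert hy]
      refine (hV.inC_pair hk _ _ (hvw v w (Or.inl rfl) (Or.inr rfl) y y) s).add ih ?_
      rw [Finset.mul_sum]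
      refine Finset.sum_eq_zero fun y' _ => ?_
      simp only [smul_mul_assoc, mul_smul_comm, sub_mul, mul_sub, rk_mul_rk, hvw v v (Or.inl rfl) (Or.inl rfl),
        hvw v w (Or.inl rfl) (Or.inr rfl), hvw w v (Or.inr rfl) (Or.inl rfl), hvw w w (Or.inr rfl) (Or.inr rfl),
        zero_smul, sub_zero, smul_zero]
  refine cast (congrArg (InC Q) ?_) (hsum Finset.univ)
  rw [← Finset.smul_sum, Finset.sum_sub_distrib, e1, e2, hodd, neg_one_smul, Matrix.mul_neg, Matrix.mul_one,
    sub_neg_eq_add, ← tens_update_add, hPP, sl]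
  congr 2
  funext l
  rcases eq_or_ne l j with rfl | hl
  · simp [hj]
  · simp [hl]

/-- an isometry of the polar form preserving pure tensors preserves the form -/
theorem mem_oG_of_pure {g : ((Fin t → Fin k) → F) ≃ₗ[F] ((Fin t → Fin k) → F)}
    (hpol : ∀ x y, polar Q (g x) (g y) = polar Q x y) (hg : ∀ a, ∃ b, g (pv a) = pv b) : g ∈ oG Q := by
  classical
  show ∀ x, Q (g x) = Q x
  let b : (Fin t → Fin k) → Fin t → Fin k → F := fun y j => Pi.single (y j) 1
  intro x
  have hw : x = ∑ y, x y • pv (b y) := by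
    funext z
    rw [Finset.sum_apply, Finset.sum_eq_single z]
    · simp [pv, b]
    · intro y _ hy
      obtain ⟨j, hj⟩ := Function.ne_iff.1 hy
      simp only [Pi.smul_apply, pv, smul_eq_mul]
      rw [Finset.prod_eq_zero (Finset.mem_univ j) (by simp [b, Ne.symm hj]), mul_zero]
    · exact fun h => absurd (Finset.mem_univ z) h
  rw [hw]
  generalize (Finset.univ : Finset (Fin t → Fin k)) = S
  induction S using Finset.induction_on with
  | empty => simp
  | insert y S hy ih =>
    rw [Finset.sum_insert hy, map_add, map_add', map_add', ih, hpol, map_smul, Quad.map_smul', Quad.map_smul']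
    obtain ⟨b', hb'⟩ := hg (b y)
    rw [hb', hV.pure, hV.pure]

/-- an even permutation of the slots lies in the commutator subgroup -/
theorem inC_perm {σ : Equiv.Perm (Fin t)} (hσ : Equiv.Perm.sign σ = 1) :
    ∃ g ∈ commutator (oG Q), mt g = Asch.permU (F := F) (m := k) σ := by
  classical
  have hmem : ∀ τ : Equiv.Perm (Fin t), glEquiv (Fin t → Fin k) F (Asch.permU τ) ∈ oG Q := fun τ => by
    refine hV.mem_oG_of_pure (fun x y => ?_) (fun a => ⟨fun j => a (τ.symm j), ?_⟩)
    · rw [hV.pol, hV.pol, glEquiv_apply, glEquiv_apply]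
      congr 1
      have hbm : ∀ A : Matrix (Fin t → Fin k) (Fin t → Fin k) F,
          bf (GV J) (A *ᵥ x) (A *ᵥ y) = bf (Aᵀ * GV J * A) x y := fun A => by
        rw [bf, bf, ← mulVec_mulVec, ← mulVec_mulVec, dotProduct_mulVec x Aᵀ, vecMul_transpose]
      rw [hbm, SpWreath.permU_iso]
    · rw [glEquiv_apply]
      funext z
      show (Asch.permM τ *ᵥ pv a) z = _
      simp only [mulVec, dotProduct, pv, Asch.permM, Matrix.of_apply, ite_mul, one_mul, zero_mul,
        Finset.sum_ite_eq', Finset.mem_univ, if_true, Function.comp_apply]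
      exact Fintype.prod_equiv τ _ _ fun j => by rw [Equiv.symm_apply_apply]
  let φ : Equiv.Perm (Fin t) →* oG Q := MonoidHom.mk'
    (fun τ => ⟨glEquiv (Fin t → Fin k) F (Asch.permU τ), hmem τ⟩) fun τ ρ => Subtype.ext (by
      show glEquiv (Fin t → Fin k) F (Asch.permU (τ * ρ)) = _
      rw [show (Asch.permU (τ * ρ) : GL (Fin t → Fin k) F) = Asch.permU τ * Asch.permU ρ from
        Units.ext (Asch.permM_mul τ ρ).symm, map_mul]
      rfl)
  refine ⟨φ σ, ?_, MulEquiv.symm_apply_apply (glEquiv (Fin t → Fin k) F) _⟩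
  exact mem_commutator_map φ (perm_mem_commutator hσ)

/-- root elements of the matrix group give planes -/
theorem pl_of_root {H : Subgroup (oG Q)} {a b : Fin t → Fin k → F} (hab : bf (GV J) (pv a) (pv b) = 0)
    (h : Root (H.map mt) (rk (GV J) (pv a) (pv b) - rk (GV J) (pv b) (pv a))) : Pl H (pv a) (pv b) := by
  refine ⟨hV.pure a, hV.pure b, by rw [hV.pol, hab, mul_zero], fun l ha hl => ?_⟩
  obtain ⟨_, ⟨g, hg, rfl⟩, hge⟩ := h (l * c)
  rwa [show sO ha hl = g from mt_injective (Units.ext (by rw [hge, hV.sO_mat (hV.pure b)]))]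

/-- a sum of two pure tensors independent in two slots is not pure -/
theorem not_pure {x a w : Fin t → Fin k → F} {s : F} (hs : s ≠ 0) (ha : ∀ l, a l ≠ 0) (hx : ∀ l, x l ≠ 0)
    {i j : Fin t} (hij : i ≠ j) (hi : ∀ r : F, a i ≠ r • x i) (hj : ∀ r : F, a j ≠ r • x j)
    (h : pv w = pv x + s • pv a) : False := by
  classical
  have hne : ∀ l, ∃ z, bf J z (x l) ≠ 0 ∧ bf J z (a l) ≠ 0 := fun l => by
    obtain ⟨p, hp⟩ := hV.exists_nonorth (hx l)
    obtain ⟨q, hq⟩ := hV.exists_nonorth (ha l)
    have hp := hV.bf_ne_symm hp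
    have hq := hV.bf_ne_symm hq
    by_cases h1 : bf J p (a l) = 0
    · by_cases h0 : bf J q (x l) = 0
      · exact ⟨p + q, by rwa [bf_add_left, h0, add_zero], by rwa [bf_add_left, h1, zero_add]⟩
      · exact ⟨q, h0, hq⟩
    · exact ⟨p, hp, h1⟩
  choose z hzx hza using hne
  have hdual : ∀ l, (∀ r : F, a l ≠ r • x l) → ∃ p q, bf J p (x l) ≠ 0 ∧ bf J p (a l) = 0 ∧ bf J q (x l) = 0 ∧
      bf J q (a l) ≠ 0 := fun l hl => by
    have hl' : ∀ r : F, x l ≠ r • a l := fun r e => by
      rcases eq_or_ne r 0 with rfl | hr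
      · exact hx l (by rw [e, zero_smul])
      · exact hl r⁻¹ (by rw [e, inv_smul_smul₀ hr])
    obtain ⟨q, hq1, hq2⟩ := hV.dual2 hl
    obtain ⟨p, hp1, hp2⟩ := hV.dual2 hl'
    exact ⟨p, q, hV.bf_ne_symm (by rw [hp2]; exact one_ne_zero), hV.perp_symm hp1, hV.perp_symm hq1,
      hV.bf_ne_symm (by rw [hq2]; exact one_ne_zero)⟩
  obtain ⟨pi, qi, h1, h2, h3, h4⟩ := hdual i hi
  obtain ⟨pj, qj, h5, h6, h7, h8⟩ := hdual j hj
  have key : ∀ y : Fin t → Fin k → F, ∏ l, bf J (y l) (w l) = (∏ l, bf J (y l) (x l)) + s * ∏ l, bf J (y l) (a l) :=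
    fun y => by rw [← bf_pv, h, bf_add_right, bf_smul_right, bf_pv, bf_pv]
  let Y : (Fin k → F) → (Fin k → F) → Fin t → Fin k → F := fun p q => Function.update (Function.update z i p) j q
  have hY : ∀ p q l, Y p q l = if l = j then q else if l = i then p else z l := fun p q l => by
    rcases eq_or_ne l j with rfl | hl
    · simp [Y]
    · rcases eq_or_ne l i with rfl | hl' <;> simp [Y, *]
  have hx0 : ∀ q p, bf J p (x i) = 0 ∨ bf J q (x j) = 0 → ∏ l, bf J (Y p q l) (x l) = 0 := fun q p h => by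
    rcases h with h | h
    · exact Finset.prod_eq_zero (Finset.mem_univ i) (by simpa [hY, hij] using h)
    · exact Finset.prod_eq_zero (Finset.mem_univ j) (by simpa [hY] using h)
  have ha0 : ∀ q p, bf J p (a i) = 0 ∨ bf J q (a j) = 0 → ∏ l, bf J (Y p q l) (a l) = 0 := fun q p h => by
    rcases h with h | h
    · exact Finset.prod_eq_zero (Finset.mem_univ i) (by simpa [hY, hij] using h)
    · exact Finset.prod_eq_zero (Finset.mem_univ j) (by simpa [hY] using h)
  have k1 := key (Y pi pj)
  rw [ha0 pj pi (Or.inl h2), mul_zero, add_zero] at k1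
  have n1 : ∀ l, bf J (Y pi pj l) (w l) ≠ 0 := fun l => by
    refine Finset.prod_ne_zero_iff.1 (?_ : ∏ l, bf J (Y pi pj l) (w l) ≠ 0) l (Finset.mem_univ l)
    rw [k1]
    refine Finset.prod_ne_zero_iff.2 fun l _ => ?_
    rw [hY]
    split_ifs with e e'
    · subst e; exact h5
    · subst e'; exact h1
    · exact hzx l
  have k2 := key (Y qi qj)
  rw [hx0 qj qi (Or.inl h3), zero_add] at k2
  have n2 : ∀ l, bf J (Y qi qj l) (w l) ≠ 0 := fun l => by
    refine Finset.prod_ne_zero_iff.1 (?_ : ∏ l, bf J (Y qi qj l) (w l) ≠ 0) l (Finset.mem_univ l)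
    rw [k2]
    refine mul_ne_zero hs ?_
    refine Finset.prod_ne_zero_iff.2 fun l _ => ?_
    rw [hY]
    split_ifs with e e'
    · subst e; exact h8
    · subst e'; exact h4
    · exact hza l
  have k3 := key (Y pi qj)
  rw [hx0 qj pi (Or.inr h7), ha0 qj pi (Or.inl h2), mul_zero, add_zero] at k3
  refine Finset.prod_ne_zero_iff.2 (fun l _ => ?_) k3
  rcases eq_or_ne l j with rfl | hl
  · have := n2 l
    rw [hY, if_pos rfl] at this ⊢
    exact this
  · have := n1 l
    rw [hY, if_neg hl] at this ⊢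
    exact this

theorem standard_pure {g : GL (Fin t → Fin k) F} (hg : g ∈ tensorWreathStandard k t F) (a : Fin t → Fin k → F) :
    ∃ b : Fin t → Fin k → F, (g : Matrix (Fin t → Fin k) (Fin t → Fin k) F) *ᵥ pv a = pv b := by
  let S : Set ((Fin t → Fin k) → F) := {w | ∃ a : Fin t → Fin k → F, w = pv a}
  have hgen : tensorWreathStandard k t F ≤ Cfsg.stabilizing (Cfsg.glToMat (Fin t → Fin k) F) S := by
    refine (Subgroup.closure_le _).2 fun x hx => NotMax.mem_stabilizing S x ?_
    rintro _ ⟨a, rfl⟩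
    rcases hx with ⟨gs, hgs⟩ | ⟨σ, hσ⟩
    · refine ⟨fun j => (gs j : Matrix (Fin k) (Fin k) F) *ᵥ a j, funext fun z => ?_⟩
      simp only [mulVec, dotProduct, pv, hgs, ← Finset.prod_mul_distrib]
      exact (Fintype.prod_sum fun j l => (gs j : Matrix (Fin k) (Fin k) F) (z j) l * a j l).symm
    · refine ⟨fun j => a (σ.symm j), funext fun z => ?_⟩
      simp only [mulVec, dotProduct, pv, hσ, ite_mul, one_mul, zero_mul, Finset.sum_ite_eq', Finset.mem_univ, if_true,
        Function.comp_apply]
      exact Fintype.prod_equiv σ _ _ fun j => by rw [Equiv.symm_apply_apply]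
  exact ((hgen hg) (pv a)).1 ⟨a, rfl⟩

/-- the commutator subgroup does not preserve the decomposition -/
theorem exists_not_standard (hk : (3 ≤ k ∧ 2 ≤ t) ∨ (k = 2 ∧ 4 ≤ t)) :
    ∃ g ∈ commutator (oG Q), mt g ∉ tensorWreathStandard k t F := by
  classical
  obtain ⟨u, v, huv⟩ : ∃ u v : Fin k → F, bf J u v = 1 := by
    obtain ⟨z, hz⟩ := hV.exists_nonorth (show (Pi.single (⟨0, by omega⟩ : Fin k) (1 : F) : Fin k → F) ≠ 0 by simp)
    exact ⟨_, (bf J (Pi.single (⟨0, by omega⟩ : Fin k) 1) z)⁻¹ • z, by rw [bf_smul_right, inv_mul_cancel₀ hz]⟩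
  have hvu : bf J v u = -1 := by rw [hV.swap, huv]
  have hu : u ≠ 0 := fun e => by rw [e, bf, zero_dotProduct] at huv; exact zero_ne_one huv
  have hv : v ≠ 0 := fun e => by rw [e, bf, mulVec_zero, dotProduct_zero] at huv; exact zero_ne_one huv
  have ht2 : 2 ≤ t := by omega
  have hk2 : 2 ≤ k := by omega
  set i : Fin t := ⟨0, zero_lt_two.trans_le ht2⟩
  set j : Fin t := ⟨1, one_lt_two.trans_le ht2⟩
  have hij : i ≠ j := by simp [i, j]
  obtain ⟨a, b, x, hab, hax, hbx, ha, hx, hi, hj⟩ : ∃ a b x : Fin t → Fin k → F,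
      bf (GV J) (pv a) (pv b) = 0 ∧ bf (GV J) (pv a) (pv x) = 0 ∧ bf (GV J) (pv b) (pv x) ≠ 0 ∧
      (∀ l, a l ≠ 0) ∧ (∀ l, x l ≠ 0) ∧ (∀ r : F, a i ≠ r • x i) ∧ (∀ r : F, a j ≠ r • x j) := by
    have hind : ∀ r : F, u ≠ r • v := fun r e => by
      rw [e, bf_smul_left, hV.alt, mul_zero] at huv; exact zero_ne_one huv
    rcases hk with ⟨hk, -⟩ | ⟨-, ht⟩
    · obtain ⟨p, q, hup, hvp, huq, -, hpq⟩ := hV.perp_hyp hk (show bf J u v ≠ 0 by rw [huv]; exact one_ne_zero)
      have hvw : bf J v (u + p) = -1 := by rw [bf_add_right, hvu, hvp, add_zero]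
      refine ⟨fun _ => u, Function.update (fun _ => v) i u, Function.update (fun _ => u + p) i v, ?_, ?_, ?_,
        fun _ => hu, fun l => ?_, ?_, ?_⟩
      · rw [bf_pv, Finset.prod_eq_zero (Finset.mem_univ i)]
        simp [hV.alt]
      · rw [bf_pv, Finset.prod_eq_zero (Finset.mem_univ j)]
        simp [(Ne.symm hij), bf_add_right, hV.alt, hup]
      · rw [bf_pv]
        refine Finset.prod_ne_zero_iff.2 fun l _ => ?_
        rcases eq_or_ne l i with h | h
        · simp [h, huv]
        · simp [h, hvw]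
      · rcases eq_or_ne l i with h | h
        · simp [h, hv]
        · simp only [Function.update_of_ne h]
          intro e
          rw [e, bf, mulVec_zero, dotProduct_zero] at hvw
          exact neg_ne_zero.2 one_ne_zero hvw.symm
      · simpa using hind
      · simp only [Function.update_of_ne (Ne.symm hij)]
        intro r e
        have h1 := congrArg (bf J · v) e
        have h2 := congrArg (bf J · q) e
        simp only [bf_smul_left, bf_add_left, huv, hV.perp_symm hvp, add_zero, mul_one] at h1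
        simp only [bf_smul_left, bf_add_left, huq, zero_add, hpq, mul_one] at h2
        exact one_ne_zero (h1.trans h2.symm)
    · refine ⟨fun _ => u, fun l => if (l : ℕ) < 2 then u else v, fun l => if (l : ℕ) < 2 then v else u, ?_, ?_, ?_,
        fun _ => hu, fun l => ?_, ?_, ?_⟩
      · rw [bf_pv, Finset.prod_eq_zero (Finset.mem_univ i)]
        simp [i, hV.alt]
      · rw [bf_pv, Finset.prod_eq_zero (Finset.mem_univ (⟨2, by omega⟩ : Fin t))]
        simp [hV.alt]
      · rw [bf_pv]
        refine Finset.prod_ne_zero_iff.2 fun l _ => ?_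
        split_ifs
        · rw [huv]; exact one_ne_zero
        · rw [hvu]; exact neg_ne_zero.2 one_ne_zero
      · dsimp only
        split_ifs
        exacts [hv, hu]
      · simpa [i] using hind
      · simpa [j] using hind
  have hpol : polar Q (pv a) ((1 : F) • pv b) = 0 := by rw [one_smul, hV.pol, hab, mul_zero]
  refine ⟨sO (hV.pure a) hpol, sO_mem_commutator hV.nd (Or.inr ?_) _ _, fun h => ?_⟩
  · rw [Module.finrank_fintype_fun_eq_card, Fintype.card_fun, Fintype.card_fin, Fintype.card_fin]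
    rcases hk with ⟨h1, h2⟩ | ⟨h1, h2⟩
    · have : 3 ^ 2 ≤ k ^ t := le_trans (Nat.pow_le_pow_left h1 2) (Nat.pow_le_pow_right (by omega) h2)
      omega
    · have : 2 ^ 4 ≤ k ^ t := by rw [h1]; exact Nat.pow_le_pow_right (by omega) h2
      omega
  obtain ⟨w, hw⟩ := hV.standard_pure h x
  rw [hV.sO_mat (hV.pure b), one_mul, add_mulVec, one_mulVec, smul_mulVec, sub_mulVec, rk_mulVec, rk_mulVec, hax,
    zero_smul, sub_zero, smul_smul] at hw
  exact hV.not_pure (mul_ne_zero hV.c0 hbx) ha hx hij hi hj hw.symm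

end Space

/-- transport of isometries along a change of coordinates -/
noncomputable def trO {V W : Type*} [AddCommGroup V] [Module F V] [AddCommGroup W] [Module F W] (R : QuadraticForm F W)
    (L : V ≃ₗ[F] W) : oG (R.comp (L : V →ₗ[F] W)) ≃* oG R where
  toFun g := ⟨L.symm.trans (g.1.trans L), fun x => by
    show R (L (g.1 (L.symm x))) = R x
    have h := g.2 (L.symm x)
    simpa using h⟩
  invFun g := ⟨L.trans (g.1.trans L.symm), fun x => by
    show R (L (L.symm (g.1 (L x)))) = R (L x)
    rw [LinearEquiv.apply_symm_apply, g.2]⟩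
  left_inv g := ext_oG fun x => by simp
  right_inv g := ext_oG fun x => by simp
  map_mul' g h := ext_oG fun x => by simp [oG_mul_apply]

theorem trO_apply {V W : Type*} [AddCommGroup V] [Module F V] [AddCommGroup W] [Module F W] (R : QuadraticForm F W)
    (L : V ≃ₗ[F] W) (g : oG (R.comp (L : V →ₗ[F] W))) (x : V) : (trO R L g).1 (L x) = L (g.1 x) := by
  simp [trO]

/-- maximality from a criterion in the coordinates of the decomposition -/
theorem isMaximal_of_space [Fintype F] {ι : Type} [Fintype ι] [DecidableEq ι] (R : QuadraticForm F (ι → F))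
    (hR : (polarBilin R).Nondegenerate) (hn : 5 ≤ Fintype.card ι) (e : ι ≃ (Fin t → Fin k)) (P : GL ι F)
    (hV : Space (R.comp (Asch.frL e P : ((Fin t → Fin k) → F) →ₗ[F] (ι → F))) J c)
    (hk : (3 ≤ k ∧ 2 ≤ t) ∨ (k = 2 ∧ 4 ≤ t))
    (hover : ∀ H : Subgroup (oG (R.comp (Asch.frL e P : ((Fin t → Fin k) → F) →ₗ[F] (ι → F)))),
      (∀ g ∈ commutator (oG (R.comp (Asch.frL e P : ((Fin t → Fin k) → F) →ₗ[F] (ι → F)))),
        mt g ∈ tensorWreathStandard k t F → g ∈ H) →
      ∀ g ∈ H, mt g ∉ tensorWreathStandard k t F →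
        eo (R.comp (Asch.frL e P : ((Fin t → Fin k) → F) →ₗ[F] (ι → F))) ≤ H) :
    IsMaximalIn (omegaGL ⇑R) (tensorWreathSubgroup k t e P ⊓ omegaGL ⇑R) := by
  classical
  set L := Asch.frL e P
  set T := trO R L
  have hKiff : ∀ g, (glEquiv ι F).symm (T g).1 ∈ tensorWreathSubgroup k t e P ↔ mt g ∈ tensorWreathStandard k t F :=
    fun g => by
      have e1 : (glEquiv ι F).symm (T g).1 = Asch.fr e P (mt g) := by
        apply (glEquiv ι F).injective
        rw [MulEquiv.apply_symm_apply]
        refine LinearEquiv.ext fun y => ?_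
        obtain ⟨x, rfl⟩ := L.surjective y
        rw [glEquiv_apply]
        show _ = PrimeDim.mat _ *ᵥ _
        rw [Asch.fr_mulVec, show PrimeDim.mat (mt g) *ᵥ x = g.1 x from mt_mulVec g x]
        exact trO_apply R L g x
      rw [e1, ← Asch.map_fr_eq_wreath]
      exact Subgroup.mem_map_iff_mem (f := (Asch.fr e P).toMonoidHom) (Asch.fr e P).injective
  refine isMaximalIn_omega R hR hn (tensorWreathSubgroup k t e P) ?_ fun H hH g hg hgK => ?_
  · obtain ⟨g, hg, hgS⟩ := hV.exists_not_standard hk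
    exact ⟨T g, mem_commutator_map T.toMonoidHom hg, fun h => hgS ((hKiff g).1 h)⟩
  obtain ⟨g', rfl⟩ := T.surjective g
  have h1 := hover (H.comap T.toMonoidHom) (fun x hx hxS => hH (T x) (mem_commutator_map T.toMonoidHom hx) ((hKiff x).2 hxS)) g' hg
    fun h => hgK ((hKiff g').2 h)
  refine (Subgroup.closure_le _).2 ?_
  rintro _ ⟨p, w, hp, hpw, rfl⟩
  obtain ⟨x, rfl⟩ := L.surjective p
  obtain ⟨y, rfl⟩ := L.surjective w
  have hx : (R.comp (L : ((Fin t → Fin k) → F) →ₗ[F] (ι → F))) x = 0 := hp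
  have hxy : polar (R.comp (L : ((Fin t → Fin k) → F) →ₗ[F] (ι → F))) x y = 0 := by
    rw [← hpw]; simp [polar]
  have h2 := h1 (Subgroup.subset_closure ⟨x, y, hx, hxy, rfl⟩)
  rw [Subgroup.mem_comap] at h2
  suffices T (sO hx hxy) = sO hp hpw from this ▸ h2
  refine ext_oG fun z => ?_
  obtain ⟨z, rfl⟩ := L.surjective z
  rw [trO_apply, sO_apply, sO_apply]
  simp [polar]

end Cfsg.Agent.ClassicalMax.OWreath
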