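import Cfsg.Agent.ClassicalMax.OWreath.Odd
import Cfsg.Agent.ClassicalMax.OWreath.Two.Engine

/-!
Even characteristic: a subgroup of the orthogonal group of a tensor power of an alternating form of dimension at least
six containing the stabiliser of the decomposition in the commutator subgroup and one more element contains all
Siegel transformations.
-/

set_option autoImplicit false
set_option linter.unusedSectionVars false
set_option linter.style.haveILetI false

namespace Cfsg.Agent.ClassicalMax.OWreath

open Module Matrix QuadraticMap Cfsg.Geo Cfsg.Agent.Classical Cfsg.Agent.Classical.Quad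
open Cfsg.Agent.ClassicalMax Cfsg.Agent.ClassicalMax.TPow Cfsg.Agent.ClassicalMax.RootPlanes
open Cfsg.Agent.ClassicalMax.SpWreath (GV GV_det pv bf_pv rk_pv Root)
open scoped MatrixGroups

variable {F : Type*} [Field F] [Finite F] {k t : ℕ} {J : Matrix (Fin k) (Fin k) F}
  {Q : QuadraticForm F ((Fin t → Fin k) → F)} {c : F}

namespace Space

variable (hV : Space Q J c)
include hV

theorem setting_two (h2 : (2 : F) = 0) (ht : 2 ≤ t) (hk : 6 ≤ k) {H : Subgroup (oG Q)}
    (hH : ∀ g ∈ commutator (oG Q), mt g ∈ tensorWreathStandard k t F → g ∈ H) : Two.Setting J (H.map mt) where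
  two := h2
  alt := hV.alt
  det := hV.det
  dim := hk
  iso := by
    rintro _ ⟨g, -, rfl⟩
    exact hV.mt_iso g
  root i u := by
    have hkt : k ^ t ≠ 4 := by
      have : 6 ^ 2 ≤ k ^ t := (Nat.pow_le_pow_left hk 2).trans (Nat.pow_le_pow_right (by omega) ht)
      omega
    have hm1 : (-1 : F) = 1 := by linear_combination -h2
    obtain ⟨g, hg, e⟩ := hV.inC_slot (Or.inr hkt) (by rw [hm1, one_pow]) ht i u 1
    rw [one_smul] at e
    refine ⟨mt g, Subgroup.mem_map_of_mem _ (hH g hg ?_), e⟩
    have hsA : rk J u u * rk J u u = 0 := by rw [rk_mul_rk, hV.alt, zero_smul]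
    rw [show mt g = Asch.pureU (Function.update 1 i (SpWreath.uni (rk J u u) hsA)) from Units.ext (by
      rw [e, ← sl_one (β := Fin t) (κ := Fin k) (F := F) i, ← sl_add]
      show _ = tens (fun j => (Function.update (1 : Fin t → GL (Fin k) F) i (SpWreath.uni (rk J u u) hsA) j :
        Matrix (Fin k) (Fin k) F))
      rw [sl]
      congr 1
      funext j
      rcases eq_or_ne j i with rfl | hj
      · simp [SpWreath.uni]
      · simp [hj])]
    exact Subgroup.subset_closure (Or.inl ⟨_, fun _ _ => rfl⟩)
  perm σ hσ := by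
    obtain ⟨g, hg, e⟩ := hV.inC_perm hσ
    refine ⟨g, hH g hg ?_, e⟩
    rw [e]
    exact Subgroup.subset_closure (Or.inr ⟨σ, fun _ _ => rfl⟩)

/-- the criterion in even characteristic -/
theorem eo_le_even (h2 : (2 : F) = 0) (ht : 2 ≤ t) (hk : 6 ≤ k) {H : Subgroup (oG Q)}
    (hH : ∀ g ∈ commutator (oG Q), mt g ∈ tensorWreathStandard k t F → g ∈ H) {g : oG Q}
    (hg : g ∈ H) (hgS : mt g ∉ tensorWreathStandard k t F) : eo Q ≤ H := by
  classical
  obtain ⟨d, hd⟩ := ((hV.setting_two h2 ht hk hH).planes_or_standard (by omega)).resolve_right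
    fun h => hgS (h _ (Subgroup.mem_map_of_mem _ hg))
  haveI : Nontrivial (Fin t) := Fin.nontrivial_iff_two_le.2 ht
  obtain ⟨j, hj⟩ := exists_ne d
  refine hV.eo_le_of_planes (by omega) ht d fun a x y hxy => hV.pl_of_root ?_ fun s => ?_
  · rw [bf_pv]
    exact Finset.prod_eq_zero (Finset.mem_univ j) (by simp [hj, hV.alt])
  · refine cast (congrArg (SpWreath.InH _) ?_) (hd a x y hxy s)
    rw [rk_pv, rk_pv, sub_eq_add_neg, Two.neg_self h2, tens_update_add]
    congr 4 <;> funext l <;> rcases eq_or_ne l d with rfl | hl <;> simp [*]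

end Space

end Cfsg.Agent.ClassicalMax.OWreath
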