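import Cfsg.Agent.ClassicalMax.OWreath.Frame
import Cfsg.Agent.ClassicalMax.SpWreath.EvenSlots

/-!
Odd characteristic: a subgroup of the orthogonal group of a tensor power of a symplectic form containing the
stabiliser of the decomposition in the commutator subgroup and one more element contains all Siegel transformations.
-/

set_option autoImplicit false
set_option linter.unusedSectionVars false
set_option linter.style.haveILetI false

namespace Cfsg.Agent.ClassicalMax.OWreath

open Module Matrix QuadraticMap Cfsg.Geo Cfsg.Agent.Classical Cfsg.Agent.Classical.Quad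
open Cfsg.Agent.ClassicalMax Cfsg.Agent.ClassicalMax.TPow Cfsg.Agent.ClassicalMax.RootPlanes
open Cfsg.Agent.ClassicalMax.SpWreath (GV GV_det pv bf_pv rk_pv Root InH Setting pl PlaneAt root_sq)
open scoped MatrixGroups

variable {F : Type*} [Field F] [Finite F] {k t : ℕ} {J : Matrix (Fin k) (Fin k) F}
  {Q : QuadraticForm F ((Fin t → Fin k) → F)} {c : F}

namespace Space

variable (hV : Space Q J c)
include hV

theorem mt_iso (g : oG Q) : (mt g : Matrix (Fin t → Fin k) (Fin t → Fin k) F)ᵀ * GV J *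
    (mt g : Matrix (Fin t → Fin k) (Fin t → Fin k) F) = GV J := by
  set A := (mt g : Matrix (Fin t → Fin k) (Fin t → Fin k) F)
  ext a b
  have h := polar_oG g (Pi.single a 1) (Pi.single b 1)
  rw [hV.pol, hV.pol, ← mt_mulVec, ← mt_mulVec] at h
  have h1 := mul_left_cancel₀ hV.c0 h
  have e : ∀ (G : Matrix (Fin t → Fin k) (Fin t → Fin k) F) a b, bf G (Pi.single a 1) (Pi.single b 1) = G a b :=
    fun G a b => by simp [bf, single_dotProduct]
  rw [← e (Aᵀ * GV J * A) a b, ← e (GV J) a b, ← h1, bf, bf, ← mulVec_mulVec, ← mulVec_mulVec,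
    dotProduct_mulVec _ Aᵀ, vecMul_transpose]

/-- the planes from the slot root elements -/
theorem setting (h2 : (2 : F) ≠ 0) (ht : 2 ≤ t) (hte : Even t) (hk : 2 ≤ k) (hex : Nat.card F ≠ 2 ∨ k ^ t ≠ 4)
    {H : Subgroup (oG Q)} (hH : ∀ g ∈ commutator (oG Q), mt g ∈ tensorWreathStandard k t F → g ∈ H) :
    Setting J (H.map mt) where
  two := h2
  skew := hV.J_skew
  det := hV.det
  tpos := by omega
  kpos := hk
  iso := by
    rintro _ ⟨g, -, rfl⟩
    exact hV.mt_iso g
  root i u s := by
    obtain ⟨g, hg, e⟩ := hV.inC_slot hex hte.neg_one_pow ht i u s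
    refine ⟨mt g, Subgroup.mem_map_of_mem _ (hH g hg ?_), e⟩
    have hsA : (s • rk J u u) * (s • rk J u u) = 0 := by
      rw [smul_mul_assoc, mul_smul_comm, root_sq h2 hV.J_skew, smul_zero, smul_zero]
    rw [show mt g = Asch.pureU (Function.update 1 i (SpWreath.uni (s • rk J u u) hsA)) from Units.ext (by
      rw [e, ← sl_smul, ← sl_one (β := Fin t) (κ := Fin k) (F := F) i, ← sl_add]
      show _ = tens (fun j => (Function.update (1 : Fin t → GL (Fin k) F) i (SpWreath.uni (s • rk J u u) hsA) j :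
        Matrix (Fin k) (Fin k) F))
      rw [sl]
      congr 1
      funext j
      rcases eq_or_ne j i with rfl | hj
      · simp [SpWreath.uni]
      · simp [hj])]
    exact Subgroup.subset_closure (Or.inl ⟨_, fun _ _ => rfl⟩)
  perm σ hσ := by
    obtain ⟨g, hg, e⟩ := hV.inC_perm (hσ.resolve_right (Nat.not_odd_iff_even.2 hte))
    refine ⟨g, hH g hg ?_, e⟩
    rw [e]
    exact Subgroup.subset_closure (Or.inr ⟨σ, fun _ _ => rfl⟩)

/-- planes give all Siegel transformations -/
theorem pl_of_planeAt {H : Subgroup (oG Q)} {d : Fin t} (h : PlaneAt J (H.map mt) d) (ht : 2 ≤ t)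
    (a : Fin t → Fin k → F) (x y : Fin k → F) (hxy : k = 2 ∨ bf J x y = 0) :
    Pl H (pv (Function.update a d x)) (pv (Function.update a d y)) := by
  classical
  haveI : Nontrivial (Fin t) := Fin.nontrivial_iff_two_le.2 ht
  obtain ⟨j, hj⟩ := exists_ne d
  refine hV.pl_of_root ?_ ?_
  · rw [bf_pv]
    exact Finset.prod_eq_zero (Finset.mem_univ j) (by simp [hj, hV.alt])
  · refine cast (congrArg (Root _) ?_) (h a x y hxy)
    rw [rk_pv, rk_pv, pl, sub_eq_add_neg, ← neg_one_smul F (rk J y x), tens_update_add, tens_update_smul,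
      neg_one_smul, ← sub_eq_add_neg]
    congr 2 <;> funext l <;> rcases eq_or_ne l d with rfl | hl <;> simp [*]

/-- the criterion in odd characteristic -/
theorem eo_le_odd (h2 : (2 : F) ≠ 0) (ht : 2 ≤ t) (hte : Even t) (hk : 2 ≤ k) (hq : k = 2 → 5 ≤ Nat.card F)
    {H : Subgroup (oG Q)} (hH : ∀ g ∈ commutator (oG Q), mt g ∈ tensorWreathStandard k t F → g ∈ H) {g : oG Q}
    (hg : g ∈ H) (hgS : mt g ∉ tensorWreathStandard k t F) : eo Q ≤ H := by
  have hS := hV.setting h2 ht hte hk (Or.inl fun h => h2 (by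
    haveI := Fintype.ofFinite F
    rw [Nat.card_eq_fintype_card] at h
    exact_mod_cast (show ((2 : ℕ) : F) = 0 by rw [← h]; exact Nat.cast_card_eq_zero F))) hH
  have hrad : SpWreath.Rad J (H.map mt) := by
    by_contra hne
    exact hgS (hS.rad_or_standard hq hne (Subgroup.mem_map_of_mem _ hg))
  rcases eq_or_lt_of_le hk with hk2 | hk3
  · obtain ⟨ht4, hall⟩ := hS.planeAt_two hk2.symm hte hrad
    exact hV.eo_le_of_planes_two hk2.symm ht4 fun d a x y => hV.pl_of_planeAt (hall d) ht a x y (Or.inl hk2.symm)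
  · obtain ⟨d, hd⟩ := hS.planeAt hk3 hte hrad
    exact hV.eo_le_of_planes hk3 ht d fun a x y hxy => hV.pl_of_planeAt hd ht a x y (Or.inr hxy)

end Space

end Cfsg.Agent.ClassicalMax.OWreath
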