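import Cfsg.Agent.ClassicalMax.SpWreath.Grow
import Cfsg.Agent.ClassicalMax.RootPlanes
import Cfsg.Agent.Classical.QuadOrder

/-!
A quadratic form on a tensor power of an alternating form vanishing on pure tensors: long root groups of planes of
pure tensors differing in one slot generate all Siegel transformations.
-/

set_option autoImplicit false
set_option linter.unusedSectionVars false
set_option linter.style.haveILetI false

namespace Cfsg.Agent.ClassicalMax.OWreath

open Module Matrix QuadraticMap Cfsg.Agent.Classical Cfsg.Agent.Classical.Quad Cfsg.Agent.ClassicalMax.TPow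
open Cfsg.Agent.ClassicalMax.RootPlanes
open Cfsg.Agent.ClassicalMax.SpWreath (GV GV_det pv bf_pv)

variable {F : Type*} [Field F] [Finite F] {k t : ℕ} {J : Matrix (Fin k) (Fin k) F}
  {Q : QuadraticForm F ((Fin t → Fin k) → F)} {c : F}

/-- a quadratic form polarising to a multiple of a tensor power of an alternating form -/
structure Space (Q : QuadraticForm F ((Fin t → Fin k) → F)) (J : Matrix (Fin k) (Fin k) F) (c : F) : Prop where
  c0 : c ≠ 0
  alt : ∀ u, bf J u u = 0
  det : IsUnit J.det
  pol : ∀ x y, polar Q x y = c * bf (GV J) x y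
  pure : ∀ a : Fin t → Fin k → F, Q (pv a) = 0

theorem pv_update_add (a : Fin t → Fin k → F) (j : Fin t) (v w : Fin k → F) :
    pv (Function.update a j (v + w)) = pv (Function.update a j v) + pv (Function.update a j w) := by
  funext y
  simp only [pv, Pi.add_apply, ← Finset.mul_prod_erase _ _ (Finset.mem_univ j), Function.update_self, add_mul]
  congr 1 <;> exact congrArg _ (Finset.prod_congr rfl fun l hl => by
    simp [Function.update_of_ne (Finset.ne_of_mem_erase hl)])

theorem pv_update_smul (a : Fin t → Fin k → F) (j : Fin t) (s : F) (v : Fin k → F) :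
    pv (Function.update a j (s • v)) = s • pv (Function.update a j v) := by
  funext y
  simp only [pv, Pi.smul_apply, smul_eq_mul, ← Finset.mul_prod_erase _ _ (Finset.mem_univ j), Function.update_self,
    mul_assoc]
  exact congrArg _ (congrArg _ (Finset.prod_congr rfl fun l hl => by
    simp [Function.update_of_ne (Finset.ne_of_mem_erase hl)]))

theorem pl_of_tS {H : Subgroup (oG Q)} {e w : (Fin t → Fin k) → F} {he : Q e = 0} (hw : Q w = 0)
    (h : w ∈ tS H he) : Pl H e w := ⟨he, hw, h.1, fun l _ h' => h.2 l h'⟩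

namespace Space

variable (hV : Space Q J c)
include hV

theorem swap (u v : Fin k → F) : bf J u v = -bf J v u := by
  have h := hV.alt (u + v)
  rw [bf_add_left, bf_add_right, bf_add_right, hV.alt, hV.alt, zero_add, add_zero] at h
  exact eq_neg_of_add_eq_zero_left h

theorem perp_symm {u v : Fin k → F} (h : bf J u v = 0) : bf J v u = 0 := by rw [hV.swap, h, neg_zero]

theorem bf_ne_symm {u v : Fin k → F} (h : bf J u v ≠ 0) : bf J v u ≠ 0 := fun e => h (hV.perp_symm e)

theorem nd : (polarBilin Q).Nondegenerate :=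
  nondeg_of fun x hx => by
    by_contra hne
    obtain ⟨y, hy⟩ := exists_bf_ne (GV J) (GV_det hV.det) hne
    have := hx y
    rw [hV.pol] at this
    exact mul_ne_zero hV.c0 hy this

theorem pol_pv (a b : Fin t → Fin k → F) : polar Q (pv a) (pv b) = c * ∏ j, bf J (a j) (b j) := by
  rw [hV.pol, bf_pv]

theorem pol_zero {a b : Fin t → Fin k → F} {j : Fin t} (h : bf J (a j) (b j) = 0) :
    polar Q (pv a) (pv b) = 0 := by
  rw [hV.pol_pv, Finset.prod_eq_zero (Finset.mem_univ j) h, mul_zero]

theorem pol_ne {a b : Fin t → Fin k → F} (h : ∀ j, bf J (a j) (b j) ≠ 0) : polar Q (pv a) (pv b) ≠ 0 := by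
  rw [hV.pol_pv]
  exact mul_ne_zero hV.c0 (Finset.prod_ne_zero_iff.2 fun j _ => h j)

/-- a vector pairing with the second and orthogonal to the first -/
theorem dual2 {u v : Fin k → F} (h : ∀ s : F, v ≠ s • u) : ∃ w, bf J u w = 0 ∧ bf J v w = 1 := by
  by_cases hu : u = 0
  · obtain ⟨w, hw⟩ := exists_bf_ne J hV.det (show v ≠ 0 from fun e => h 0 (by rw [e, zero_smul]))
    exact ⟨(bf J v w)⁻¹ • w, by rw [hu, bf, zero_dotProduct],
      by rw [bf_smul_right, inv_mul_cancel₀ hw]⟩
  obtain ⟨z₀, hz₀⟩ := exists_bf_ne J hV.det hu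
  obtain ⟨z, hz⟩ := exists_bf_ne J hV.det (show v + (-(bf J v z₀ / bf J u z₀)) • u ≠ 0 from fun e =>
    h (bf J v z₀ / bf J u z₀) (by linear_combination (norm := module) e))
  set w := z + (-(bf J u z / bf J u z₀)) • z₀ with hw
  have h1 : bf J u w = 0 := by rw [hw, bf_add_right, bf_smul_right, neg_mul, div_mul_cancel₀ _ hz₀, add_neg_cancel]
  have h2 : bf J v w ≠ 0 := by
    rw [hw, bf_add_right, bf_smul_right]
    rw [bf_add_left, bf_smul_left] at hz
    intro e
    apply hz
    rw [← e]
    field_simp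
  exact ⟨(bf J v w)⁻¹ • w, by rw [bf_smul_right, h1, mul_zero], by rw [bf_smul_right, inv_mul_cancel₀ h2]⟩

theorem exists_outside (hk : 3 ≤ k) (u v : Fin k → F) : ∃ w : Fin k → F, ∀ a b : F, w ≠ a • u + b • v := by
  by_contra! h
  have hle : (⊤ : Submodule F (Fin k → F)) ≤ Submodule.span F ({u, v} : Set (Fin k → F)) := fun z _ => by
    obtain ⟨a, b, hab⟩ := h z
    exact Submodule.mem_span_pair.2 ⟨a, b, hab.symm⟩
  have h1 := Submodule.finrank_mono hle
  rw [finrank_top, Module.finrank_fintype_fun_eq_card, Fintype.card_fin] at h1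
  classical
  have h2 : finrank F (Submodule.span F ({u, v} : Set (Fin k → F))) ≤ 2 := by
    rw [show ({u, v} : Set (Fin k → F)) = ↑({u, v} : Finset (Fin k → F)) by simp]
    exact (finrank_span_finset_le_card _).trans Finset.card_le_two
  omega

/-- a non-orthogonal pair orthogonal to a non-orthogonal pair -/
theorem perp_hyp (hk : 3 ≤ k) {x y : Fin k → F} (h : bf J x y ≠ 0) :
    ∃ v w, bf J x v = 0 ∧ bf J y v = 0 ∧ bf J x w = 0 ∧ bf J y w = 0 ∧ bf J v w = 1 := by
  set γ := bf J x y
  have hyx : bf J y x = -γ := hV.swap y x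
  let p : (Fin k → F) → (Fin k → F) := fun z => z + (-(bf J x z / γ)) • y + (bf J y z / γ) • x
  have hp : ∀ z, bf J x (p z) = 0 ∧ bf J y (p z) = 0 := fun z => by
    constructor <;>
    · simp only [p, bf_add_right, bf_smul_right, hV.alt, hyx]
      field_simp
      ring
  obtain ⟨z, hz⟩ := hV.exists_outside hk x y
  set v := p z with hv
  have hv0 : v ≠ 0 := fun e => hz (-(bf J y z / γ)) (bf J x z / γ) (by
    rw [hv] at e; linear_combination (norm := module) e)
  obtain ⟨w, hw⟩ := exists_bf_ne J hV.det hv0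
  have hvx := hV.perp_symm (hp z).1
  have hvy := hV.perp_symm (hp z).2
  refine ⟨v, (bf J v w)⁻¹ • p w, (hp z).1, (hp z).2, by rw [bf_smul_right, (hp w).1, mul_zero],
    by rw [bf_smul_right, (hp w).2, mul_zero], ?_⟩
  rw [bf_smul_right, show bf J v (p w) = bf J v w by
    simp only [p, bf_add_right, bf_smul_right, hv] at hvx hvy ⊢
    rw [hvx, hvy]; ring, inv_mul_cancel₀ hw]

theorem exists_nonorth {u : Fin k → F} (hu : u ≠ 0) : ∃ z, bf J u z ≠ 0 := exists_bf_ne J hV.det hu

/-- pure tensors with some prescribed slots and non-zero pairings elsewhere span -/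
theorem span_pure_on (S : Submodule F ((Fin t → Fin k) → F)) {a : Fin t → Fin k → F} (ha : ∀ j, a j ≠ 0)
    (E : Finset (Fin t)) {v : Fin t → Fin k → F}
    (h : ∀ r : Fin t → Fin k → F, (∀ j ∈ E, r j = v j) → (∀ j, j ∉ E → bf J (a j) (r j) ≠ 0) → pv r ∈ S)
    (r : Fin t → Fin k → F) (hr : ∀ j ∈ E, r j = v j) : pv r ∈ S := by
  suffices ∀ (s : Finset (Fin t)) (r : Fin t → Fin k → F), (∀ j ∈ E, r j = v j) →
      (∀ j, j ∉ E → j ∉ s → bf J (a j) (r j) ≠ 0) → pv r ∈ S from
    this Finset.univ r hr fun j _ hj => absurd (Finset.mem_univ j) hj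
  intro s
  induction s using Finset.induction_on with
  | empty => intro r hrE hr; exact h r hrE fun j hj => hr j hj (Finset.notMem_empty j)
  | insert l s _ ih =>
    intro r hrE hr
    by_cases hl : l ∈ E ∨ bf J (a l) (r l) ≠ 0
    · refine ih r hrE fun j hj hjs => ?_
      rcases eq_or_ne j l with rfl | hjl
      · exact hl.resolve_left hj
      · exact hr j hj (by simp [hjl, hjs])
    push Not at hl
    obtain ⟨hlE, hl0⟩ := hl
    obtain ⟨z, hz⟩ := hV.exists_nonorth (ha l)
    have hE : ∀ w, ∀ j ∈ E, Function.update r l w j = v j := fun w j hj => by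
      rw [Function.update_of_ne (fun e : j = l => hlE (e ▸ hj))]; exact hrE j hj
    have e : r = Function.update r l ((r l + z) + (-1 : F) • z) := by
      rw [show r l + z + (-1 : F) • z = r l by module, Function.update_eq_self]
    rw [e, pv_update_add, pv_update_smul]
    refine S.add_mem (ih _ (hE _) fun j hj hjs => ?_) (S.smul_mem _ (ih _ (hE _) fun j hj hjs => ?_)) <;>
    · rcases eq_or_ne j l with rfl | hjl
      · rw [Function.update_self]
        first
          | exact hz
          | (rw [bf_add_right, hl0, zero_add]; exact hz)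
      · rw [Function.update_of_ne hjl]
        exact hr j hj (by simp [hjl, hjs])

/-- pure tensors with prescribed non-zero pairings span -/
theorem span_pure (S : Submodule F ((Fin t → Fin k) → F)) {a : Fin t → Fin k → F} (ha : ∀ j, a j ≠ 0) {d : Fin t}
    {v : Fin k → F} (h : ∀ r : Fin t → Fin k → F, (∀ j, j ≠ d → bf J (a j) (r j) ≠ 0) → pv (Function.update r d v) ∈ S)
    (r : Fin t → Fin k → F) : pv (Function.update r d v) ∈ S := by
  refine hV.span_pure_on S ha {d} (v := fun _ => v) (fun r' hr hr' => ?_) _ fun j hj => ?_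
  · have := h r' fun j hj => hr' j (by simpa using hj)
    rwa [show Function.update r' d v = r' from Function.update_eq_self_iff.2 (hr d (by simp)).symm] at this
  · rw [Finset.mem_singleton.1 hj, Function.update_self]

/-- the pure tensors orthogonal to a pure tensor span its orthogonal -/
theorem perp_span (S : Submodule F ((Fin t → Fin k) → F)) {a : Fin t → Fin k → F} (ha : ∀ j, a j ≠ 0)
    (h : ∀ r : Fin t → Fin k → F, (∃ j, bf J (a j) (r j) = 0) → pv r ∈ S) {w : (Fin t → Fin k) → F}
    (hw : polar Q (pv a) w = 0) : w ∈ S := by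
  classical
  choose z hz using fun j => hV.exists_nonorth (ha j)
  have key : ∀ (s : Finset (Fin t)) (r : Fin t → Fin k → F),
      pv r + (-(∏ j ∈ s, bf J (a j) (r j) / bf J (a j) (z j))) • pv (s.piecewise z r) ∈ S := fun s => by
    induction s using Finset.induction_on with
    | empty => intro r; simp
    | insert l s hl ih =>
      intro r
      have h1 := ih r
      set q := s.piecewise z r with hq
      have hql : q l = r l := Finset.piecewise_eq_of_notMem _ _ _ hl
      have h2 : pv (Function.update q l (q l + (-(bf J (a l) (r l) / bf J (a l) (z l))) • z l)) ∈ S :=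
        h _ ⟨l, by
          rw [Function.update_self, bf_add_right, bf_smul_right, hql, neg_mul, div_mul_cancel₀ _ (hz l),
            add_neg_cancel]⟩
      rw [pv_update_add, pv_update_smul, Function.update_eq_self] at h2
      have h3 := S.add_mem h1 (S.smul_mem (∏ j ∈ s, bf J (a j) (r j) / bf J (a j) (z j)) h2)
      rw [Finset.piecewise_insert, Finset.prod_insert hl, ← hq]
      refine cast (congrArg (· ∈ S) ?_) h3
      module
  have hT : ∀ w : (Fin t → Fin k) → F,
      w + (-(bf (GV J) (pv a) w / bf (GV J) (pv a) (pv z))) • pv z ∈ S := fun w => by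
    let b : (Fin t → Fin k) → Fin t → Fin k → F := fun y j => Pi.single (y j) 1
    have hw' : w = ∑ y, w y • pv (b y) := by
      funext x
      rw [Finset.sum_apply, Finset.sum_eq_single x]
      · simp [pv, b]
      · intro y _ hy
        obtain ⟨j, hj⟩ := Function.ne_iff.1 hy
        simp only [Pi.smul_apply, pv, smul_eq_mul]
        rw [Finset.prod_eq_zero (Finset.mem_univ j) (by simp [b, Ne.symm hj]), mul_zero]
      · exact fun h => absurd (Finset.mem_univ x) h
    have e : w + (-(bf (GV J) (pv a) w / bf (GV J) (pv a) (pv z))) • pv z =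
        ∑ y, w y • (pv (b y) + (-(∏ j, bf J (a j) (b y j) / bf J (a j) (z j))) • pv z) := by
      simp only [smul_add, Finset.sum_add_distrib, smul_smul, ← Finset.sum_smul]
      rw [← hw']
      congr 2
      conv_lhs => rw [hw']
      rw [bf, mulVec_sum, dotProduct_sum, Finset.sum_div, ← Finset.sum_neg_distrib]
      refine Finset.sum_congr rfl fun y _ => ?_
      rw [mulVec_smul, dotProduct_smul, smul_eq_mul, Finset.prod_div_distrib, ← bf_pv, ← bf_pv]
      simp only [bf]
      ring
    rw [e]
    refine S.sum_mem fun y _ => S.smul_mem _ ?_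
    have := key Finset.univ (b y)
    rwa [Finset.piecewise_univ] at this
  have h0 : bf (GV J) (pv a) w = 0 := by
    rw [hV.pol] at hw; exact (mul_eq_zero.1 hw).resolve_left hV.c0
  have := hT w
  rwa [h0, zero_div, neg_zero, zero_smul, add_zero] at this

/-- full root groups at two pure tensors give all Siegel transformations -/
theorem eo_le_of_pure {H : Subgroup (oG Q)} (hn : 3 ≤ Fintype.card (Fin t → Fin k))
    (h : ∀ a : Fin t → Fin k → F, (∀ j, a j ≠ 0) → Full H (pv a)) (hk : 0 < k) : eo Q ≤ H := by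
  have h1 : (Pi.single (⟨0, hk⟩ : Fin k) (1 : F) : Fin k → F) ≠ 0 := by simp
  obtain ⟨z, hz⟩ := hV.exists_nonorth h1
  refine eo_le hV.nd (by rwa [Module.finrank_fintype_fun_eq_card])
    (h (fun _ => Pi.single ⟨0, hk⟩ 1) fun _ => h1) (h (fun _ => z) fun _ e => hz (by rw [e, bf, mulVec_zero, dotProduct_zero]))
    (hV.pol_ne fun _ => hz)

/-- planes at one slot, slot dimension at least three -/
theorem eo_le_of_planes {H : Subgroup (oG Q)} (hk : 3 ≤ k) (ht : 2 ≤ t) (d : Fin t)
    (hPl : ∀ (a : Fin t → Fin k → F) (x y : Fin k → F), bf J x y = 0 →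
      Pl H (pv (Function.update a d x)) (pv (Function.update a d y))) : eo Q ≤ H := by
  classical
  haveI : Nontrivial (Fin t) := Fin.nontrivial_iff_two_le.2 ht
  obtain ⟨j₀, hj₀⟩ := exists_ne d
  let E : (Fin t → Fin k → F) → (Fin k → F) → ((Fin t → Fin k) → F) := fun a x => pv (Function.update a d x)
  have hd : ∀ {a b : Fin t → Fin k → F} {x y : Fin k → F}, bf J x y = 0 → polar Q (E a x) (E b y) = 0 :=
    fun {a b x y} h => hV.pol_zero (j := d) (by simp [h])
  have hj : ∀ {a b : Fin t → Fin k → F} {x y : Fin k → F} (j : Fin t), j ≠ d → bf J (a j) (b j) = 0 →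
      polar Q (E a x) (E b y) = 0 := fun {a b x y} j hjd h => hV.pol_zero (j := j) (by simp [hjd, h])
  have hne : ∀ {a b : Fin t → Fin k → F} {x y : Fin k → F}, (∀ j, j ≠ d → bf J (a j) (b j) ≠ 0) → bf J x y ≠ 0 →
      polar Q (E a x) (E b y) ≠ 0 := fun {a b x y} h h' => hV.pol_ne fun j => by
    rcases eq_or_ne j d with rfl | hjd
    · simp [h']
    · simp [hjd, h j hjd]
  have hgood : ∀ a : Fin t → Fin k → F, ∀ x, x ≠ 0 → (∀ j, j ≠ d → a j ≠ 0) →
      ∀ j, Function.update a d x j ≠ 0 := fun a x hx ha j => by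
    rcases eq_or_ne j d with rfl | hjd
    · rw [Function.update_self]; exact hx
    · rw [Function.update_of_ne hjd]; exact ha j hjd
  -- same vector in the slot
  have st1 : ∀ a r x, x ≠ 0 → (∀ j, j ≠ d → a j ≠ 0) → E r x ∈ tS H (hV.pure (Function.update a d x)) := by
    intro a r x hx ha
    obtain ⟨y, hy⟩ := hV.exists_nonorth hx
    obtain ⟨v, w, hxv, -, hxw, -, hvw⟩ := hV.perp_hyp (by omega) hy
    refine hV.span_pure _ (hgood a x hx ha) (fun r hr => ?_) r
    have hr' : ∀ j, j ≠ d → bf J (a j) (r j) ≠ 0 := fun j hjd => by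
      have := hr j hjd; rwa [Function.update_of_ne hjd] at this
    exact mem_tS (Pl.rule (hPl a x v hxv) (hPl r w x (hV.perp_symm hxw)) (hd hxw) (hd (hV.alt x))
      (hd (hV.perp_symm hxv)) (hne hr' (by rw [hvw]; exact one_ne_zero)))
  have pl1 : ∀ a r x, x ≠ 0 → (∀ j, j ≠ d → a j ≠ 0) → Pl H (E a x) (E r x) := fun a r x hx ha =>
    pl_of_tS (hV.pure _) (st1 a r x hx ha)
  -- orthogonal vectors in the slot
  have st : ∀ a r x v, x ≠ 0 → (∀ j, j ≠ d → a j ≠ 0) → bf J x v = 0 →
      E r v ∈ tS H (hV.pure (Function.update a d x)) := by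
    intro a r x v hx ha hxv
    by_cases hprop : ∃ s : F, v = s • x
    · obtain ⟨s, rfl⟩ := hprop
      show pv _ ∈ _
      rw [pv_update_smul]
      exact Submodule.smul_mem _ s (st1 a r x hx ha)
    push Not at hprop
    have hv : v ≠ 0 := fun e => hprop 0 (by rw [e, zero_smul])
    have hvx : ∀ s : F, x ≠ s • v := fun s e => by
      rcases eq_or_ne s 0 with rfl | hs
      · exact hx (by rw [e, zero_smul])
      · exact hprop s⁻¹ (by rw [e, inv_smul_smul₀ hs])
    have hq : ∀ q : Fin t → Fin k → F, (∀ j, j ≠ d → q j ≠ 0) → ∃ s : Fin t → Fin k → F, ∀ j, j ≠ d → bf J (s j) (q j) ≠ 0 :=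
      fun q hq => by
        have : ∀ j, ∃ s : Fin k → F, j ≠ d → bf J s (q j) ≠ 0 := fun j => by
          by_cases hjd : j = d
          · exact ⟨0, fun h => absurd hjd h⟩
          · obtain ⟨z, hz⟩ := hV.exists_nonorth (hq j hjd)
            exact ⟨z, fun _ => hV.bf_ne_symm hz⟩
        choose s hs using this
        exact ⟨s, hs⟩
    -- orthogonal in another slot
    have st2 : ∀ a r, (∀ j, j ≠ d → a j ≠ 0) → ∀ j, j ≠ d → bf J (a j) (r j) = 0 → ∀ x v, x ≠ 0 → v ≠ 0 →
        (∀ s : F, v ≠ s • x) → bf J x v = 0 → E r v ∈ tS H (hV.pure (Function.update a d x)) := by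
      intro a r ha j hjd hj0 x v hx hv hprop hxv
      obtain ⟨w, hxw, hvw⟩ := hV.dual2 hprop
      obtain ⟨q, hq⟩ := hq a ha
      refine mem_tS (Pl.rule (hPl a x w hxw) (pl1 q r v hv fun l hl e => hq l hl (by rw [e, bf, zero_dotProduct]))
        (hd hxv) (hd hxv) (hj j hjd hj0) (hne (fun l hl => hV.bf_ne_symm (hq l hl)) ?_))
      exact hV.bf_ne_symm (by rw [hvw]; exact one_ne_zero)
    refine hV.span_pure _ (hgood a x hx ha) (fun r hr => ?_) r
    have hr' : bf J (a j₀) (r j₀) ≠ 0 := by
      have := hr j₀ hj₀; rwa [Function.update_of_ne hj₀] at this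
    obtain ⟨q₀, q₁, haq, hrq, -, -, hqq⟩ := hV.perp_hyp (by omega) hr'
    have hq₀ : q₀ ≠ 0 := fun e => by rw [e, bf, zero_dotProduct] at hqq; exact zero_ne_one hqq
    let q : Fin t → Fin k → F := Function.update r j₀ q₀
    have hq0 : ∀ j, j ≠ d → q j ≠ 0 := fun j hjd => by
      rcases eq_or_ne j j₀ with rfl | h
      · simpa [q] using hq₀
      · simp only [q, Function.update_of_ne h]
        intro e
        have := hr j hjd
        rw [e, bf, mulVec_zero, dotProduct_zero] at this
        exact this rfl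
    obtain ⟨z, hvz, hxz⟩ := hV.dual2 hvx
    obtain ⟨s, hs⟩ := hq q hq0
    have hz0 : z ≠ 0 := fun e => by rw [e, bf, mulVec_zero, dotProduct_zero] at hxz; exact zero_ne_one hxz
    have hzv : ∀ s : F, v ≠ s • z := fun s e => by
      have h1 := hxv
      rw [e, bf_smul_right, hxz, mul_one] at h1
      exact hv (by rw [e, h1, zero_smul])
    refine mem_tS (Pl.rule (pl1 a s x hx ha) (pl_of_tS (hV.pure _) (st2 q r hq0 j₀ hj₀
      (by simp only [q, Function.update_self]; exact hV.perp_symm hrq) z v hz0 hv hzv (hV.perp_symm hvz)))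
      (hj j₀ hj₀ (by simp only [q, Function.update_self]; exact haq)) (hd hxv) (hd hxv) (hne hs ?_))
    rw [hxz]; exact one_ne_zero
  have pl : ∀ a r x v, x ≠ 0 → (∀ j, j ≠ d → a j ≠ 0) → bf J x v = 0 → Pl H (E a x) (E r v) :=
    fun a r x v hx ha hxv => pl_of_tS (hV.pure _) (st a r x v hx ha hxv)
  refine hV.eo_le_of_pure ?_ (fun b hb => ?_) (by omega)
  · rw [Fintype.card_fun, Fintype.card_fin, Fintype.card_fin]
    exact le_trans (by omega) (Nat.le_self_pow (by omega : t ≠ 0) k)
  have ha : ∀ j, j ≠ d → b j ≠ 0 := fun j _ => hb j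
  have eb : pv b = E b (b d) := by simp [E]
  refine full_of_tS (hV.pure _) fun w hw => hV.perp_span _ hb (fun r hr => ?_) hw
  by_cases hxv : bf J (b d) (r d) = 0
  · have := st b r (b d) (r d) (hb d) ha hxv
    simpa [E] using this
  obtain ⟨j, hj0⟩ := hr
  have hjd : j ≠ d := fun e => hxv (e ▸ hj0)
  obtain ⟨v, w, hxv', hyv, hxw, hyw, hvw⟩ := hV.perp_hyp (by omega) hxv
  have hs : ∀ l, ∃ z : Fin k → F, l ≠ d → bf J (b l) z ≠ 0 := fun l =>
    (hV.exists_nonorth (hb l)).imp fun z hz _ => hz
  choose q hq using hs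
  have hw0 : w ≠ 0 := fun e => by rw [e, bf, mulVec_zero, dotProduct_zero] at hvw; exact zero_ne_one hvw
  have hq0 : ∀ l, l ≠ d → q l ≠ 0 := fun l hl e => hq l hl (by rw [e, bf, mulVec_zero, dotProduct_zero])
  have h1 := Pl.rule (pl b b (b d) v (hb d) ha hxv') (pl q r w (r d) hw0 hq0 (hV.perp_symm hyw)) (hd hxw)
    (hj j hjd hj0) (hd (hV.perp_symm hyv)) (hne hq (by rw [hvw]; exact one_ne_zero))
  simp only [E, Function.update_eq_self] at h1
  exact mem_tS h1

theorem orth_two (hk : k = 2) {u v : Fin k → F} (hu : u ≠ 0) (h : bf J u v = 0) : ∃ s : F, v = s • u := by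
  by_contra! hv
  obtain ⟨z, hz⟩ := hV.exists_nonorth hu
  have hli : LinearIndependent F ![v, u] := linearIndependent_fin2.2 ⟨hu, fun s e => hv s e.symm⟩
  have htop := hli.span_eq_top_of_card_eq_finrank (by rw [Module.finrank_fintype_fun_eq_card]; simp [hk])
  have hz' : z ∈ Submodule.span F (Set.range ![v, u]) := htop ▸ Submodule.mem_top
  obtain ⟨c, hc⟩ := Submodule.mem_span_range_iff_exists_fun F |>.1 hz'
  apply hz
  rw [← hc, Fin.sum_univ_two]
  simp [bf_add_right, bf_smul_right, h, hV.alt]

/-- planes at all slots, slot dimension two -/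
theorem eo_le_of_planes_two {H : Subgroup (oG Q)} (hk : k = 2) (ht : 4 ≤ t)
    (hPl : ∀ (d : Fin t) (a : Fin t → Fin k → F) (x y : Fin k → F),
      Pl H (pv (Function.update a d x)) (pv (Function.update a d y))) : eo Q ≤ H := by
  classical
  have hz0 : ∀ {j : Fin t} {a r : Fin t → Fin k → F}, bf J (a j) (r j) ≠ 0 → r j ≠ 0 := fun {j a r} h e =>
    h (by rw [e, bf, mulVec_zero, dotProduct_zero])
  -- agreement in two slots
  have two : ∀ a r : Fin t → Fin k → F, (∀ j, a j ≠ 0) → ∀ i₁ i₂ : Fin t, i₁ ≠ i₂ →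
      r i₁ = a i₁ → r i₂ = a i₂ → pv r ∈ tS H (hV.pure a) := by
    intro a r ha i₁ i₂ hne h1 h2
    refine hV.span_pure_on _ ha {i₁, i₂} (v := a) (fun r hrE hr => ?_) r fun j hj => ?_
    swap
    · rcases Finset.mem_insert.1 hj with rfl | hj
      · exact h1
      · rw [Finset.mem_singleton.1 hj]; exact h2
    have e1 : r i₁ = a i₁ := hrE _ (by simp)
    have e2 : r i₂ = a i₂ := hrE _ (by simp)
    obtain ⟨y, hy⟩ := hV.exists_nonorth (ha i₁)
    obtain ⟨e, he⟩ := hV.exists_nonorth (ha i₂)
    have p1 := hPl i₁ a (a i₁) y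
    have p2 := hPl i₂ r e (r i₂)
    rw [Function.update_eq_self] at p1 p2
    refine mem_tS (Pl.rule p1 p2 (hV.pol_zero (j := i₁) ?_) (hV.pol_zero (j := i₁) ?_) (hV.pol_zero (j := i₂) ?_)
      (hV.pol_ne fun j => ?_))
    · rw [Function.update_of_ne hne, e1]; exact hV.alt _
    · rw [e1]; exact hV.alt _
    · rw [Function.update_of_ne hne.symm, e2]; exact hV.alt _
    rcases eq_or_ne j i₁ with rfl | hj1
    · rw [Function.update_self, Function.update_of_ne hne, e1]; exact hV.bf_ne_symm hy
    rw [Function.update_of_ne hj1]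
    rcases eq_or_ne j i₂ with rfl | hj2
    · rw [Function.update_self]; exact he
    rw [Function.update_of_ne hj2]
    exact hr j (by simp [hj1, hj2])
  -- agreement in one slot
  have one : ∀ a r : Fin t → Fin k → F, (∀ j, a j ≠ 0) → ∀ i, r i = a i → pv r ∈ tS H (hV.pure a) := by
    intro a r ha i hi
    refine hV.span_pure_on _ ha {i} (v := a) (fun r hrE hr => ?_) r fun j hj => by
      rw [Finset.mem_singleton.1 hj]; exact hi
    have e : r i = a i := hrE i (by simp)
    have hr0 : ∀ j, r j ≠ 0 := fun j => by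
      by_cases hj : j = i
      · rw [hj, e]; exact ha i
      · exact hz0 (hr j (by simpa using hj))
    have hcard : 3 ≤ (Finset.univ.erase i).card := by
      rw [Finset.card_erase_of_mem (Finset.mem_univ i), Finset.card_univ, Fintype.card_fin]; omega
    obtain ⟨j₂, j₃, j₄, hj₂, hj₃, hj₄, h23, h24, h34⟩ := Finset.two_lt_card_iff.1 hcard
    rw [Finset.mem_erase] at hj₂ hj₃ hj₄
    obtain ⟨y, hy⟩ := hV.exists_nonorth (ha i)
    obtain ⟨z₃, hz₃⟩ := hV.exists_nonorth (ha j₃)
    obtain ⟨z₄, hz₄⟩ := hV.exists_nonorth (hr0 j₄)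
    set b := Function.update (Function.update a j₃ z₃) j₄ z₄ with hb
    set c := Function.update (Function.update r i y) j₃ (a j₃) with hc
    have hc0 : ∀ j, c j ≠ 0 := fun j => by
      rcases eq_or_ne j j₃ with rfl | h3
      · rw [hc, Function.update_self]; exact ha _
      rw [hc, Function.update_of_ne h3]
      rcases eq_or_ne j i with rfl | h1
      · rw [Function.update_self]; exact fun e => hy (by rw [e, bf, mulVec_zero, dotProduct_zero])
      rw [Function.update_of_ne h1]; exact hr0 j
    have p1 : Pl H (pv a) (pv b) := pl_of_tS (hV.pure b) (two a b ha i j₂ hj₂.1.symm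
      (by rw [hb, Function.update_of_ne hj₄.1.symm, Function.update_of_ne hj₃.1.symm])
      (by rw [hb, Function.update_of_ne h24, Function.update_of_ne h23]))
    have p2 : Pl H (pv c) (pv r) := pl_of_tS (hV.pure r) (two c r hc0 j₂ j₄ h24
      (by rw [hc, Function.update_of_ne h23, Function.update_of_ne hj₂.1])
      (by rw [hc, Function.update_of_ne h34.symm, Function.update_of_ne hj₄.1]))
    refine mem_tS (Pl.rule p1 p2 (hV.pol_zero (j := j₃) ?_) (hV.pol_zero (j := i) ?_) (hV.pol_zero (j := i) ?_)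
      (hV.pol_ne fun j => ?_))
    · rw [hc, Function.update_self]; exact hV.alt _
    · rw [e]; exact hV.alt _
    · rw [hb, Function.update_of_ne hj₄.1.symm, Function.update_of_ne hj₃.1.symm, e]; exact hV.alt _
    rcases eq_or_ne j j₄ with rfl | h4
    · rw [hb, Function.update_self, hc, Function.update_of_ne h34.symm, Function.update_of_ne hj₄.1]
      exact hV.bf_ne_symm hz₄
    rw [hb, Function.update_of_ne h4, hc]
    rcases eq_or_ne j j₃ with rfl | h3
    · rw [Function.update_self, Function.update_self]; exact hV.bf_ne_symm hz₃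
    rw [Function.update_of_ne h3, Function.update_of_ne h3]
    rcases eq_or_ne j i with rfl | h1
    · rw [Function.update_self]; exact hy
    rw [Function.update_of_ne h1]
    exact hr j (by simpa using h1)
  refine hV.eo_le_of_pure ?_ (fun a ha => ?_) (by omega)
  · rw [Fintype.card_fun, Fintype.card_fin, Fintype.card_fin]
    calc 3 ≤ 2 ^ 4 := by norm_num
      _ ≤ k ^ t := by rw [hk]; exact Nat.pow_le_pow_right (by norm_num) ht
  refine full_of_tS (hV.pure a) fun w hw => hV.perp_span _ ha (fun r hr => ?_) hw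
  obtain ⟨j, hj⟩ := hr
  obtain ⟨s, hs⟩ := hV.orth_two hk (ha j) hj
  rw [show r = Function.update r j (s • a j) by rw [← hs, Function.update_eq_self], pv_update_smul]
  exact Submodule.smul_mem _ s (one a _ ha j (Function.update_self ..))

end Space

end Cfsg.Agent.ClassicalMax.OWreath
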